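import Cfsg.Agent.Lib.Helper11.Heo.Model
import Cfsg.Agent.Lib.Helper11.Order
import Cfsg.Agent.Lib.Helper11.OrderW

set_option autoImplicit false
set_option maxRecDepth 100000

namespace Cfsg.Agent.Lib.Helper11.Heo

open Cfsg.Spor Cfsg.Spor.He Cfsg.Agent.Lib.Helper11.HeM

set_option maxHeartbeats 0

noncomputable def mnets : List (List (ℕ × ℕ)) := [[(mk8_0, 4096), (mk8_1, 2048), (mk8_2, 1024), (mk8_3, 512), (mk8_4, 256), (mk8_5, 128), (mk8_6, 64), (mk8_7, 32), (mk8_8, 16), (mk8_9, 8), (mk8_10, 4), (mk8_11, 2), (mk8_12, 1), (mk8_13, 2), (mk8_14, 4), (mk8_15, 8), (mk8_16, 16), (mk8_17, 32), (mk8_18, 64), (mk8_19, 128), (mk8_20, 256), (mk8_21, 512), (mk8_22, 1024), (mk8_23, 2048), (mk8_24, 4096)], [(mk9_0, 8192), (mk9_1, 4096), (mk9_2, 2048), (mk9_3, 1024), (mk9_4, 512), (mk9_5, 256), (mk9_6, 128), (mk9_7, 64), (mk9_8, 32), (mk9_9, 16), (mk9_10, 8), (mk9_11, 4), (mk9_12,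 2), (mk9_13, 1), (mk9_14, 2), (mk9_15, 4), (mk9_16, 8), (mk9_17, 16), (mk9_18, 32), (mk9_19, 64), (mk9_20, 128), (mk9_21, 256), (mk9_22, 512), (mk9_23, 1024), (mk9_24, 2048), (mk9_25, 4096), (mk9_26, 8192)], [(mk10_0, 8192), (mk10_1, 4096), (mk10_2, 2048), (mk10_3, 1024), (mk10_4, 512), (mk10_5, 256), (mk10_6, 128), (mk10_7, 64), (mk10_8, 32), (mk10_9, 16), (mk10_10, 8), (mk10_11, 4), (mk10_12, 2), (mk10_13, 1), (mk10_14, 2), (mk10_15, 4), (mk10_16, 8), (mk10_17, 16), (mk10_18, 32), (mk10_19, 64), (mk10_20, 128), (mk10_21, 256), (mk10_22, 512), (mk10_23, 1024), (mk10_24, 2048), (mk10_25, 4096), (mk10_26, 8192)], [(mk11_0, 8192), (mk11_1, 4096), (mk11_2, 2048), (mk11_3, 1024), (mk11_4, 512), (mk11_5, 256), (mk11_6, 128), (mk11_7, 64), (mk11_8, 32), (mk11_9, 16), (mk11_10, 8), (mk11_11, 4), (mk11_12, 2), (mk11_13, 1), (mk11_14, 2), (mk11_15, 4), (mk11_16, 8), (mk11_17,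 16), (mk11_18, 32), (mk11_19, 64), (mk11_20, 128), (mk11_21, 256), (mk11_22, 512), (mk11_23, 1024), (mk11_24, 2048), (mk11_25, 4096), (mk11_26, 8192)], [(mk12_0, 8192), (mk12_1, 4096), (mk12_2, 2048), (mk12_3, 1024), (mk12_4, 512), (mk12_5, 256), (mk12_6, 128), (mk12_7, 64), (mk12_8, 32), (mk12_9, 16), (mk12_10, 8), (mk12_11, 4), (mk12_12, 2), (mk12_13, 1), (mk12_14, 2), (mk12_15, 4), (mk12_16, 8), (mk12_17, 16), (mk12_18, 32), (mk12_19, 64), (mk12_20, 128), (mk12_21, 256), (mk12_22, 512), (mk12_23, 1024), (mk12_24, 2048), (mk12_25, 4096), (mk12_26, 8192)], [(mk13_0, 8192), (mk13_1, 4096), (mk13_2, 2048), (mk13_3, 1024), (mk13_4, 512), (mk13_5, 256), (mk13_6, 128), (mk13_7, 64), (mk13_8, 32), (mk13_9, 16), (mk13_10, 8), (mk13_11, 4), (mk13_12, 2), (mk13_13, 1), (mk13_14, 2), (mk13_15, 4), (mk13_16, 8), (mk13_17, 16), (mk13_18, 32), (mk13_19, 64), (mk13_20, 128),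 (mk13_21, 256), (mk13_22, 512), (mk13_23, 1024), (mk13_24, 2048), (mk13_25, 4096), (mk13_26, 8192)], [(mk14_0, 4096), (mk14_1, 2048), (mk14_2, 1024), (mk14_3, 512), (mk14_4, 256), (mk14_5, 128), (mk14_6, 64), (mk14_7, 32), (mk14_8, 16), (mk14_9, 8), (mk14_10, 4), (mk14_11, 2), (mk14_12, 1), (mk14_13, 2), (mk14_14, 4), (mk14_15, 8), (mk14_16, 16), (mk14_17, 32), (mk14_18, 64), (mk14_19, 128), (mk14_20, 256), (mk14_21, 512), (mk14_22, 1024), (mk14_23, 2048), (mk14_24, 4096)], [(mk15_0, 2048), (mk15_1, 1024), (mk15_2, 512), (mk15_3, 256), (mk15_4, 128), (mk15_5, 64), (mk15_6, 32), (mk15_7, 16), (mk15_8, 8), (mk15_9, 4), (mk15_10, 2), (mk15_11, 1), (mk15_12, 2), (mk15_13, 4), (mk15_14, 8), (mk15_15, 16), (mk15_16, 32), (mk15_17, 64), (mk15_18, 128), (mk15_19, 256), (mk15_20, 512), (mk15_21, 1024), (mk15_22, 2048)], [(mk16_0, 8192), (mk16_1, 4096), (mk16_2, 2048), (mk16_3,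 1024), (mk16_4, 512), (mk16_5, 256), (mk16_6, 128), (mk16_7, 64), (mk16_8, 32), (mk16_9, 16), (mk16_10, 8), (mk16_11, 4), (mk16_12, 2), (mk16_13, 1), (mk16_14, 2), (mk16_15, 4), (mk16_16, 8), (mk16_17, 16), (mk16_18, 32), (mk16_19, 64), (mk16_20, 128), (mk16_21, 256), (mk16_22, 512), (mk16_23, 1024), (mk16_24, 2048), (mk16_25, 4096), (mk16_26, 8192)], [(mk17_0, 4096), (mk17_1, 2048), (mk17_2, 1024), (mk17_3, 512), (mk17_4, 256), (mk17_5, 128), (mk17_6, 64), (mk17_7, 32), (mk17_8, 16), (mk17_9, 8), (mk17_10, 4), (mk17_11, 2), (mk17_12, 1), (mk17_13, 2), (mk17_14, 4), (mk17_15, 8), (mk17_16, 16), (mk17_17, 32), (mk17_18, 64), (mk17_19, 128), (mk17_20, 256), (mk17_21, 512), (mk17_22, 1024), (mk17_23, 2048), (mk17_24, 4096)], [(mk18_0, 4096), (mk18_1, 2048), (mk18_2, 1024), (mk18_3, 512), (mk18_4, 256), (mk18_5, 128), (mk18_6, 64), (mk18_7, 32), (mk18_8, 16), (mk18_9,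 8), (mk18_10, 4), (mk18_11, 2), (mk18_12, 1), (mk18_13, 2), (mk18_14, 4), (mk18_15, 8), (mk18_16, 16), (mk18_17, 32), (mk18_18, 64), (mk18_19, 128), (mk18_20, 256), (mk18_21, 512), (mk18_22, 1024), (mk18_23, 2048), (mk18_24, 4096)], [(mk19_0, 4096), (mk19_1, 2048), (mk19_2, 1024), (mk19_3, 512), (mk19_4, 256), (mk19_5, 128), (mk19_6, 64), (mk19_7, 32), (mk19_8, 16), (mk19_9, 8), (mk19_10, 4), (mk19_11, 2), (mk19_12, 1), (mk19_13, 2), (mk19_14, 4), (mk19_15, 8), (mk19_16, 16), (mk19_17, 32), (mk19_18, 64), (mk19_19, 128), (mk19_20, 256), (mk19_21, 512), (mk19_22, 1024), (mk19_23, 4096)], [(mk20_0, 4096), (mk20_1, 2048), (mk20_2, 1024), (mk20_3, 512), (mk20_4, 256), (mk20_5, 128), (mk20_6, 64), (mk20_7, 32), (mk20_8, 16), (mk20_9, 8), (mk20_10, 4), (mk20_11, 2), (mk20_12, 1), (mk20_13, 2), (mk20_14, 4), (mk20_15, 8), (mk20_16, 16), (mk20_17, 32), (mk20_18, 64), (mk20_19,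 128), (mk20_20, 256), (mk20_21, 512), (mk20_22, 1024), (mk20_23, 2048), (mk20_24, 4096)]]
noncomputable def ntl2 : List (List (ℕ × ℕ)) := ntl ++ mnets
def macs : List (List ℕ) := [
  [2, 1, 2],
  [2, 3, 4, 5, 6, 4, 3, 2, 4, 3, 4, 3, 2, 5, 4, 3, 4, 5, 6, 4, 3, 2],
  [4, 5, 7, 4, 3, 4, 3, 8, 5, 9, 7, 4, 5],
  [7, 4, 3, 4, 7, 6, 9, 6, 5, 3, 4, 7, 9, 3, 1],
  [1, 4, 9, 7, 11, 11, 5, 11, 3, 4],
  [6, 9, 4, 6, 9, 12, 1, 6, 11, 5, 4, 10, 6, 1],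
  [7, 4, 6, 4, 9, 5, 9, 5, 9, 4, 6, 4, 5],
  [8, 14, 12, 14, 11],
  [3, 14, 7, 10, 14, 3, 15, 5, 10, 7],
  [7, 16, 8, 16, 10, 7],
  [4, 7, 16, 3, 4, 6, 14, 12, 3, 4, 7],
  [12, 18, 14, 18, 17, 10],
  [18, 10, 15, 16, 18, 8]]
def levels : List (List ℕ × ℕ × ℕ × ℕ × ℕ) := [
  ([1, 2, 3, 4, 5, 6, 7, 1, 3, 4, 5, 6, 7, 8, 9, 10, 8, 11, 12, 13, 14, 16, 17, 18, 15, 19, 20], 2, 0, 0, 8330),
  ([1, 3, 4, 5, 6, 7, 8, 9, 10, 8, 11, 12, 13, 14, 16, 17, 18, 15, 19, 20], 2, 3010, 3010, 4480),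
  ([10, 8, 11, 12, 13, 14, 16, 17, 18, 15, 19, 20], 1, 741, 739, 27),
  ([15, 19, 20], 1, 10, 10, 4)]

theorem nets2OK : ntl2.all (fun net => net.all (stOK (2 ^ (2 ^ 14)))) = true := by decide +kernel
theorem macOK : macChk (ntOf ntl2) 14 8 macs = true := by decide +kernel
theorem chainOK : chainChk (ntOf ntl2) 21 levels [] = true := by decide +kernel

theorem hrange : ∀ l < 21, netPerm (ntOf ntl2 l) ∈ psi.range := by
  have h0 : ∀ l < 8, netPerm (ntOf ntl2 l) ∈ psi.range := by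
    intro l hl
    refine ⟨PresentedGroup.mk _ ((WExp.l l).eval (fun l => LTFm.getD l 1)), ?_⟩
    rw [psi_eval]
    show wordPerm (ntOf ntl) [l] = _
    rw [wordPerm_single]
    have hlen : ntl.length = 8 := by decide +kernel
    have e : ntOf ntl l = ntOf ntl2 l := by
      unfold ntOf ntl2
      rw [List.getD_append _ _ _ _ (by omega)]
    rw [e]
  exact macChk_spec psi (ntOf ntl2) 14 (ntOf_ok ntl2 _ nets2OK) macs 8 macOK h0

theorem order (hup : Nat.card Cfsg.Spor.He ≠ 0 ∧ Nat.card Cfsg.Spor.He ≤ 4030387200) :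
    Nat.card Cfsg.Spor.He = 4030387200 ∧ stabL psi (pushB levels []) = ⊥ :=
  order_of_chain psi _ (ntOf ntl2) (ntOf_ok ntl2 _ nets2OK) 21 hrange levels chainOK 4030387200
    (by decide +kernel) hup

theorem hbn : ∀ b ∈ pushB levels [], b < 8330 := by decide


end Cfsg.Agent.Lib.Helper11.Heo
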